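import Cfsg.Agent.Lib.Fischer.A22.Q

set_option autoImplicit false
set_option maxRecDepth 100000

namespace Cfsg.Agent.Fi.A22

open Cfsg.Agent.PC

theorem e0 : Nat.beq (rng f0 (nat_lit 0) (nat_lit 300)) (nat_lit 0) = true := by decide +kernel
theorem e300 : Nat.beq (rng f0 (nat_lit 300) (nat_lit 300)) (nat_lit 0) = true := by decide +kernel
theorem e600 : Nat.beq (rng f0 (nat_lit 600) (nat_lit 300)) (nat_lit 0) = true := by decide +kernel
theorem e900 : Nat.beq (rng f0 (nat_lit 900) (nat_lit 300)) (nat_lit 0) = true := by decide +kernel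
theorem e1200 : Nat.beq (rng f0 (nat_lit 1200) (nat_lit 300)) (nat_lit 0) = true := by decide +kernel
theorem e1500 : Nat.beq (rng f0 (nat_lit 1500) (nat_lit 300)) (nat_lit 0) = true := by decide +kernel
theorem e1800 : Nat.beq (rng f0 (nat_lit 1800) (nat_lit 300)) (nat_lit 0) = true := by decide +kernel
theorem e2100 : Nat.beq (rng f0 (nat_lit 2100) (nat_lit 300)) (nat_lit 0) = true := by decide +kernel
theorem e2400 : Nat.beq (rng f0 (nat_lit 2400) (nat_lit 300)) (nat_lit 0) = true := by decide +kernel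
theorem e2700 : Nat.beq (rng f0 (nat_lit 2700) (nat_lit 300)) (nat_lit 0) = true := by decide +kernel
theorem e3000 : Nat.beq (rng f0 (nat_lit 3000) (nat_lit 300)) (nat_lit 0) = true := by decide +kernel
theorem e3300 : Nat.beq (rng f0 (nat_lit 3300) (nat_lit 210)) (nat_lit 0) = true := by decide +kernel
theorem b0 : Nat.beq (rng f2 (nat_lit 0) (nat_lit 128)) (nat_lit 0) = true := by decide +kernel
theorem b128 : Nat.beq (rng f2 (nat_lit 128) (nat_lit 128)) (nat_lit 0) = true := by decide +kernel
theorem b256 : Nat.beq (rng f2 (nat_lit 256) (nat_lit 128)) (nat_lit 0) = true := by decide +kernel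
theorem b384 : Nat.beq (rng f2 (nat_lit 384) (nat_lit 128)) (nat_lit 0) = true := by decide +kernel
theorem b512 : Nat.beq (rng f2 (nat_lit 512) (nat_lit 64)) (nat_lit 0) = true := by decide +kernel
theorem c0 : Nat.beq (rng f3 (nat_lit 0) (nat_lit 6)) (nat_lit 0) = true := by decide +kernel
theorem c6 : Nat.beq (rng f3 (nat_lit 6) (nat_lit 6)) (nat_lit 0) = true := by decide +kernel
theorem c12 : Nat.beq (rng f3 (nat_lit 12) (nat_lit 6)) (nat_lit 0) = true := by decide +kernel
theorem d0 : Nat.beq (rng f4 (nat_lit 0) (nat_lit 256)) (nat_lit 0) = true := by decide +kernel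

end Cfsg.Agent.Fi.A22
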