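import Cfsg.Agent.Lib.Fischer.A22.Q

set_option autoImplicit false
set_option maxRecDepth 100000

namespace Cfsg.Agent.Fi.A22

open Cfsg.Agent.PC

theorem a0 : Nat.beq (rng f1 (nat_lit 0) (nat_lit 200)) (nat_lit 0) = true := by decide +kernel
theorem a200 : Nat.beq (rng f1 (nat_lit 200) (nat_lit 200)) (nat_lit 0) = true := by decide +kernel
theorem a400 : Nat.beq (rng f1 (nat_lit 400) (nat_lit 200)) (nat_lit 0) = true := by decide +kernel
theorem a600 : Nat.beq (rng f1 (nat_lit 600) (nat_lit 200)) (nat_lit 0) = true := by decide +kernel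
theorem a800 : Nat.beq (rng f1 (nat_lit 800) (nat_lit 200)) (nat_lit 0) = true := by decide +kernel
theorem a1000 : Nat.beq (rng f1 (nat_lit 1000) (nat_lit 200)) (nat_lit 0) = true := by decide +kernel
theorem a1200 : Nat.beq (rng f1 (nat_lit 1200) (nat_lit 200)) (nat_lit 0) = true := by decide +kernel
theorem a1400 : Nat.beq (rng f1 (nat_lit 1400) (nat_lit 200)) (nat_lit 0) = true := by decide +kernel
theorem a1600 : Nat.beq (rng f1 (nat_lit 1600) (nat_lit 200)) (nat_lit 0) = true := by decide +kernel

end Cfsg.Agent.Fi.A22
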