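import Cfsg.Agent.Lib.Fischer.A22.Q

set_option autoImplicit false
set_option maxRecDepth 100000

namespace Cfsg.Agent.Fi.A22

open Cfsg.Agent.PC

theorem a1800 : Nat.beq (rng f1 (nat_lit 1800) (nat_lit 200)) (nat_lit 0) = true := by decide +kernel
theorem a2000 : Nat.beq (rng f1 (nat_lit 2000) (nat_lit 200)) (nat_lit 0) = true := by decide +kernel
theorem a2200 : Nat.beq (rng f1 (nat_lit 2200) (nat_lit 200)) (nat_lit 0) = true := by decide +kernel
theorem a2400 : Nat.beq (rng f1 (nat_lit 2400) (nat_lit 200)) (nat_lit 0) = true := by decide +kernel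
theorem a2600 : Nat.beq (rng f1 (nat_lit 2600) (nat_lit 200)) (nat_lit 0) = true := by decide +kernel
theorem a2800 : Nat.beq (rng f1 (nat_lit 2800) (nat_lit 200)) (nat_lit 0) = true := by decide +kernel
theorem a3000 : Nat.beq (rng f1 (nat_lit 3000) (nat_lit 200)) (nat_lit 0) = true := by decide +kernel
theorem a3200 : Nat.beq (rng f1 (nat_lit 3200) (nat_lit 200)) (nat_lit 0) = true := by decide +kernel
theorem a3400 : Nat.beq (rng f1 (nat_lit 3400) (nat_lit 110)) (nat_lit 0) = true := by decide +kernel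

end Cfsg.Agent.Fi.A22
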