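import Cfsg.Agent.Lib.Fischer.A22.Q

set_option autoImplicit false
set_option maxRecDepth 100000

namespace Cfsg.Agent.Fi.A22

open Cfsg.Agent.PC

theorem g0 : Nat.beq (rng f5 (nat_lit 0) (nat_lit 2048)) (nat_lit 0) = true := by decide +kernel
theorem g2048 : Nat.beq (rng f5 (nat_lit 2048) (nat_lit 2048)) (nat_lit 0) = true := by decide +kernel
theorem g4096 : Nat.beq (rng f5 (nat_lit 4096) (nat_lit 2048)) (nat_lit 0) = true := by decide +kernel
theorem g6144 : Nat.beq (rng f5 (nat_lit 6144) (nat_lit 2048)) (nat_lit 0) = true := by decide +kernel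
theorem g8192 : Nat.beq (rng f5 (nat_lit 8192) (nat_lit 2048)) (nat_lit 0) = true := by decide +kernel
theorem g10240 : Nat.beq (rng f5 (nat_lit 10240) (nat_lit 2048)) (nat_lit 0) = true := by decide +kernel
theorem g12288 : Nat.beq (rng f5 (nat_lit 12288) (nat_lit 2048)) (nat_lit 0) = true := by decide +kernel
theorem g14336 : Nat.beq (rng f5 (nat_lit 14336) (nat_lit 2048)) (nat_lit 0) = true := by decide +kernel
theorem g16384 : Nat.beq (rng f5 (nat_lit 16384) (nat_lit 2048)) (nat_lit 0) = true := by decide +kernel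

end Cfsg.Agent.Fi.A22
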