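import Cfsg.Agent.Lib.Fischer.A22.S0
import Cfsg.Agent.Lib.Fischer.A22.A0
import Cfsg.Agent.Lib.Fischer.A22.B0
import Cfsg.Agent.Lib.Fischer.A22.B1
import Cfsg.Agent.Lib.Fischer.A22.C0

set_option autoImplicit false
set_option maxRecDepth 100000

namespace Cfsg.Agent.Fi.A22

open Cfsg.Agent.PC

theorem hs1 : ∀ i < 3510, sc1 i = 0 := by
  have h := zero_lt_zero sc1
  have h := zero_lt_add (a := (nat_lit 0)) (n := (nat_lit 1800)) (b := (nat_lit 1800)) h s1_0 rfl
  have h := zero_lt_add (a := (nat_lit 1800)) (n := (nat_lit 1710)) (b := (nat_lit 3510)) h s1_1800 rfl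
  exact h
theorem hs2 : ∀ i < 3510, sc2 i = 0 := by
  have h := zero_lt_zero sc2
  have h := zero_lt_add (a := (nat_lit 0)) (n := (nat_lit 1800)) (b := (nat_lit 1800)) h s2_0 rfl
  have h := zero_lt_add (a := (nat_lit 1800)) (n := (nat_lit 1710)) (b := (nat_lit 3510)) h s2_1800 rfl
  exact h
theorem hs3 : ∀ i < 3510, sc3 i = 0 := by
  have h := zero_lt_zero sc3
  have h := zero_lt_add (a := (nat_lit 0)) (n := (nat_lit 1800)) (b := (nat_lit 1800)) h s3_0 rfl
  have h := zero_lt_add (a := (nat_lit 1800)) (n := (nat_lit 1710)) (b := (nat_lit 3510)) h s3_1800 rfl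
  exact h
theorem hs4 : ∀ i < 3510, sc4 i = 0 := by
  have h := zero_lt_zero sc4
  have h := zero_lt_add (a := (nat_lit 0)) (n := (nat_lit 1800)) (b := (nat_lit 1800)) h s4_0 rfl
  have h := zero_lt_add (a := (nat_lit 1800)) (n := (nat_lit 1710)) (b := (nat_lit 3510)) h s4_1800 rfl
  exact h
theorem hs5 : ∀ i < 3510, sc5 i = 0 := by
  have h := zero_lt_zero sc5
  have h := zero_lt_add (a := (nat_lit 0)) (n := (nat_lit 1800)) (b := (nat_lit 1800)) h s5_0 rfl
  have h := zero_lt_add (a := (nat_lit 1800)) (n := (nat_lit 1710)) (b := (nat_lit 3510)) h s5_1800 rfl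
  exact h
theorem h0 : ∀ i < 3510, f0 i = 0 := by
  have h := zero_lt_zero f0
  have h := zero_lt_add (a := (nat_lit 0)) (n := (nat_lit 300)) (b := (nat_lit 300)) h e0 rfl
  have h := zero_lt_add (a := (nat_lit 300)) (n := (nat_lit 300)) (b := (nat_lit 600)) h e300 rfl
  have h := zero_lt_add (a := (nat_lit 600)) (n := (nat_lit 300)) (b := (nat_lit 900)) h e600 rfl
  have h := zero_lt_add (a := (nat_lit 900)) (n := (nat_lit 300)) (b := (nat_lit 1200)) h e900 rfl
  have h := zero_lt_add (a := (nat_lit 1200)) (n := (nat_lit 300)) (b := (nat_lit 1500)) h e1200 rfl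
  have h := zero_lt_add (a := (nat_lit 1500)) (n := (nat_lit 300)) (b := (nat_lit 1800)) h e1500 rfl
  have h := zero_lt_add (a := (nat_lit 1800)) (n := (nat_lit 300)) (b := (nat_lit 2100)) h e1800 rfl
  have h := zero_lt_add (a := (nat_lit 2100)) (n := (nat_lit 300)) (b := (nat_lit 2400)) h e2100 rfl
  have h := zero_lt_add (a := (nat_lit 2400)) (n := (nat_lit 300)) (b := (nat_lit 2700)) h e2400 rfl
  have h := zero_lt_add (a := (nat_lit 2700)) (n := (nat_lit 300)) (b := (nat_lit 3000)) h e2700 rfl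
  have h := zero_lt_add (a := (nat_lit 3000)) (n := (nat_lit 300)) (b := (nat_lit 3300)) h e3000 rfl
  have h := zero_lt_add (a := (nat_lit 3300)) (n := (nat_lit 210)) (b := (nat_lit 3510)) h e3300 rfl
  exact h
theorem h1 : ∀ i < 3510, f1 i = 0 := by
  have h := zero_lt_zero f1
  have h := zero_lt_add (a := (nat_lit 0)) (n := (nat_lit 200)) (b := (nat_lit 200)) h a0 rfl
  have h := zero_lt_add (a := (nat_lit 200)) (n := (nat_lit 200)) (b := (nat_lit 400)) h a200 rfl
  have h := zero_lt_add (a := (nat_lit 400)) (n := (nat_lit 200)) (b := (nat_lit 600)) h a400 rfl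
  have h := zero_lt_add (a := (nat_lit 600)) (n := (nat_lit 200)) (b := (nat_lit 800)) h a600 rfl
  have h := zero_lt_add (a := (nat_lit 800)) (n := (nat_lit 200)) (b := (nat_lit 1000)) h a800 rfl
  have h := zero_lt_add (a := (nat_lit 1000)) (n := (nat_lit 200)) (b := (nat_lit 1200)) h a1000 rfl
  have h := zero_lt_add (a := (nat_lit 1200)) (n := (nat_lit 200)) (b := (nat_lit 1400)) h a1200 rfl
  have h := zero_lt_add (a := (nat_lit 1400)) (n := (nat_lit 200)) (b := (nat_lit 1600)) h a1400 rfl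
  have h := zero_lt_add (a := (nat_lit 1600)) (n := (nat_lit 200)) (b := (nat_lit 1800)) h a1600 rfl
  have h := zero_lt_add (a := (nat_lit 1800)) (n := (nat_lit 200)) (b := (nat_lit 2000)) h a1800 rfl
  have h := zero_lt_add (a := (nat_lit 2000)) (n := (nat_lit 200)) (b := (nat_lit 2200)) h a2000 rfl
  have h := zero_lt_add (a := (nat_lit 2200)) (n := (nat_lit 200)) (b := (nat_lit 2400)) h a2200 rfl
  have h := zero_lt_add (a := (nat_lit 2400)) (n := (nat_lit 200)) (b := (nat_lit 2600)) h a2400 rfl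
  have h := zero_lt_add (a := (nat_lit 2600)) (n := (nat_lit 200)) (b := (nat_lit 2800)) h a2600 rfl
  have h := zero_lt_add (a := (nat_lit 2800)) (n := (nat_lit 200)) (b := (nat_lit 3000)) h a2800 rfl
  have h := zero_lt_add (a := (nat_lit 3000)) (n := (nat_lit 200)) (b := (nat_lit 3200)) h a3000 rfl
  have h := zero_lt_add (a := (nat_lit 3200)) (n := (nat_lit 200)) (b := (nat_lit 3400)) h a3200 rfl
  have h := zero_lt_add (a := (nat_lit 3400)) (n := (nat_lit 110)) (b := (nat_lit 3510)) h a3400 rfl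
  exact h
theorem h2 : ∀ i < 576, f2 i = 0 := by
  have h := zero_lt_zero f2
  have h := zero_lt_add (a := (nat_lit 0)) (n := (nat_lit 128)) (b := (nat_lit 128)) h b0 rfl
  have h := zero_lt_add (a := (nat_lit 128)) (n := (nat_lit 128)) (b := (nat_lit 256)) h b128 rfl
  have h := zero_lt_add (a := (nat_lit 256)) (n := (nat_lit 128)) (b := (nat_lit 384)) h b256 rfl
  have h := zero_lt_add (a := (nat_lit 384)) (n := (nat_lit 128)) (b := (nat_lit 512)) h b384 rfl
  have h := zero_lt_add (a := (nat_lit 512)) (n := (nat_lit 64)) (b := (nat_lit 576)) h b512 rfl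
  exact h
theorem h3 : ∀ i < 18, f3 i = 0 := by
  have h := zero_lt_zero f3
  have h := zero_lt_add (a := (nat_lit 0)) (n := (nat_lit 6)) (b := (nat_lit 6)) h c0 rfl
  have h := zero_lt_add (a := (nat_lit 6)) (n := (nat_lit 6)) (b := (nat_lit 12)) h c6 rfl
  have h := zero_lt_add (a := (nat_lit 12)) (n := (nat_lit 6)) (b := (nat_lit 18)) h c12 rfl
  exact h
theorem h4 : ∀ i < 256, f4 i = 0 := by
  have h := zero_lt_zero f4
  have h := zero_lt_add (a := (nat_lit 0)) (n := (nat_lit 256)) (b := (nat_lit 256)) h d0 rfl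
  exact h
theorem h5 : ∀ i < 18432, f5 i = 0 := by
  have h := zero_lt_zero f5
  have h := zero_lt_add (a := (nat_lit 0)) (n := (nat_lit 2048)) (b := (nat_lit 2048)) h g0 rfl
  have h := zero_lt_add (a := (nat_lit 2048)) (n := (nat_lit 2048)) (b := (nat_lit 4096)) h g2048 rfl
  have h := zero_lt_add (a := (nat_lit 4096)) (n := (nat_lit 2048)) (b := (nat_lit 6144)) h g4096 rfl
  have h := zero_lt_add (a := (nat_lit 6144)) (n := (nat_lit 2048)) (b := (nat_lit 8192)) h g6144 rfl
  have h := zero_lt_add (a := (nat_lit 8192)) (n := (nat_lit 2048)) (b := (nat_lit 10240)) h g8192 rfl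
  have h := zero_lt_add (a := (nat_lit 10240)) (n := (nat_lit 2048)) (b := (nat_lit 12288)) h g10240 rfl
  have h := zero_lt_add (a := (nat_lit 12288)) (n := (nat_lit 2048)) (b := (nat_lit 14336)) h g12288 rfl
  have h := zero_lt_add (a := (nat_lit 14336)) (n := (nat_lit 2048)) (b := (nat_lit 16384)) h g14336 rfl
  have h := zero_lt_add (a := (nat_lit 16384)) (n := (nat_lit 2048)) (b := (nat_lit 18432)) h g16384 rfl
  exact h

theorem bound {G : Type*} [Group G] [Finite G] {pt : ℕ → G} (C : FA pt 3510 A) (hb : Base pt X22.Bs) :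
    Nat.card G ≤ 129123503308800 := by
  let L : Subgroup G := ⊤
  let k := 1
  have hX : RepsC pt 3510 (fun _ => 1) X 0 := fun _ h => absurd h (Nat.not_lt_zero _)
  have hL : ∀ a ∈ L, ∀ k < 0, Commute a ((fun _ => 1 : ℕ → G) k) := fun _ _ _ h => absurd h (Nat.not_lt_zero _)
  have hk : CardLE (Fx L pt fx 45) k := lvl_end hb (by decide +kernel)
  have hf : ∀ i < 45, fx i < 3510 := by decide +kernel
  have c6 : CardLE (Fx L pt fx 45) k := hk
  have c5 : CardLE (Fx L pt fx 40) (2 * (k)) := lvl_list C hX hL (fun i hi => hf i (by omega)) (l := Ts5) (by decide +kernel) (fun _ _ _ h _ => h) (O := O5) hs5 (c6.of_le (Fx_der C hX hL (n := 41) (fun i hi => hf i (by omega)) (by omega) (l := De5) (by decide +kernel) rfl))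
  have c4 : CardLE (Fx L pt fx 36) (16 * (2 * (k))) := lvl_list C hX hL (fun i hi => hf i (by omega)) (l := Ts4) (by decide +kernel) (fun _ _ _ h _ => h) (O := O4) hs4 (c5.of_le (Fx_der C hX hL (n := 37) (fun i hi => hf i (by omega)) (by omega) (l := De4) (by decide +kernel) rfl))
  have c3 : CardLE (Fx L pt fx 9) (243 * (16 * (2 * (k)))) := lvl_cnt C hX hL (fun i hi => hf i (by omega)) (l := Ts3) (by decide +kernel) (fun _ _ _ h _ => h) hs3 (by decide +kernel) (c4.of_le (Fx_der C hX hL (n := 10) (fun i hi => hf i (by omega)) (by omega) (l := De3) (by decide +kernel) rfl))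
  have c2 : CardLE (Fx L pt fx 3) (1680 * (243 * (16 * (2 * (k))))) := lvl_cnt C hX hL (fun i hi => hf i (by omega)) (l := Ts2) (by decide +kernel) (fun _ _ _ h _ => h) hs2 (by decide +kernel) (c3.of_le (Fx_der C hX hL (n := 4) (fun i hi => hf i (by omega)) (by omega) (l := De2) (by decide +kernel) rfl))
  have c1 : CardLE (Fx L pt fx 1) (2816 * (1680 * (243 * (16 * (2 * (k)))))) := lvl_cnt C hX hL (fun i hi => hf i (by omega)) (l := Ts1) (by decide +kernel) (fun _ _ _ h _ => h) hs1 (by decide +kernel) (c2.of_le (Fx_der C hX hL (n := 2) (fun i hi => hf i (by omega)) (by omega) (l := De1) (by decide +kernel) rfl))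
  have c0 : CardLE (Fx L pt fx 0) (3510 * (2816 * (1680 * (243 * (16 * (2 * (k))))))) := lvl_all C (hf 0 (by omega)) c1
  have := c0.2
  rwa [Fx_zero, Subgroup.card_top] at this

variable {G : Type*} [Group G] [Finite G] {D : Set G} {pt : ℕ → G}

theorem base (F : FD D X22.T X22.P 3510 16 pt) : Base (fun i => inn F.tt (pt i)) X22.Bs :=
  baseA F.tt F.ctr ((F.sub X22.sb (m' := 6) (by decide +kernel)).gen_top (dsc_of X22.hb0)) fun j hj =>
    ⟨X22.P (X22.sb j), by revert j; decide +kernel, rfl⟩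

theorem main (F : FD D X22.T X22.P 3510 16 pt) (hG : Nat.card G = 64561751654400) :
    ∃ s : AutD D, RepC (fun i => inn F.tt (pt i)) 3510 s pi ∧ Nat.card (AutD D) = 2 * 64561751654400 ∧
      s ∉ (inn F.tt).range ∧ ∃ q : ℕ → AutD D, Syl (X := Cj (AutD D)) (fun i => inn F.tt (pt i)) 3510 2 (10 + 8) q Q := by
  obtain ⟨s, hs⟩ := F.outer X22.dsc h0
  have C := F.faA X22.dsc
  have R0 := reps_ext1 (X := Cj (AutD D)) (g := fun j => inn F.tt (pt (X22.P j))) (fun j hj => RepC.map _ (F.reps j hj)) hs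
  have R := reps_tabs R0 (W := W) (by decide +kernel) h1
  have hp := pc_of (base F) R X22.Bs_lt (by decide) h2
  have hc := hp.card Nat.prime_two (strE_main R C.inj h3)
  have b1 := bound C (base F)
  have b2 : Nat.card (inn F.tt).range = 64561751654400 := by
    rw [← hG, Nat.card_congr (MonoidHom.ofInjective (inn_inj F.tt F.ctr)).toEquiv]
  have b3 := Subgroup.card_subgroup_dvd_card (inn F.tt).range
  have b4 := Subgroup.card_subgroup_dvd_card (gen (fun j => ev (ext1 (fun j => inn F.tt (pt (X22.P j))) 16 s) (W j)) 18)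
  rw [b2] at b3
  rw [hc] at b4
  have b5 : Nat.card (AutD D) = 2 * 64561751654400 := by
    obtain ⟨c, hc⟩ := b3
    have : 0 < Nat.card (AutD D) := Nat.card_pos
    have h1 : c ≠ 1 := by rintro rfl; rw [hc] at b4; revert b4; decide
    omega
  refine ⟨s, hs, b5, fun h => ?_, _, Syl.of C.inj R hp h3 (by rw [b5]; decide)⟩
  have : gen (fun j => ev (ext1 (fun j => inn F.tt (pt (X22.P j))) 16 s) (W j)) 18 ≤ (inn F.tt).range :=
    gen_le fun j _ => ev_mem fun i _ => by
      unfold ext1
      rcases Nat.xor i 16 with _ | k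
      exacts [h, ⟨_, rfl⟩]
  have := Subgroup.card_dvd_of_le this
  rw [hc, b2] at this
  revert this; decide

theorem fix (F : FD D X22.T X22.P 3510 16 pt) (hG : Nat.card G = 64561751654400) (α : AutD D) (h : α ^ 2 = 1) :
    ∃ d ∈ D, α.1 d = d := by
  obtain ⟨-, -, -, -, q, Y⟩ := main F hG
  obtain ⟨g, i, hi, e⟩ := Y.fix (by decide) (F.faA X22.dsc).inj (n2 := 18) (ps := 1024) (by decide) h4 h5 h
  refine ⟨g.1 (pt i), (g.2 _).mpr (F.mem hi), inn_inj F.tt F.ctr ?_⟩
  rw [← inn_conj, ← inn_conj]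
  exact e

end Cfsg.Agent.Fi.A22
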