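import Cfsg.Agent.Lib.Fischer.A22.D

set_option autoImplicit false
set_option maxRecDepth 100000

namespace Cfsg.Agent.Fi.A22

open Cfsg.Agent.PC

theorem s1_0 : Nat.beq (rng sc1 (nat_lit 0) (nat_lit 1800)) (nat_lit 0) = true := by decide +kernel
theorem s1_1800 : Nat.beq (rng sc1 (nat_lit 1800) (nat_lit 1710)) (nat_lit 0) = true := by decide +kernel
theorem s2_0 : Nat.beq (rng sc2 (nat_lit 0) (nat_lit 1800)) (nat_lit 0) = true := by decide +kernel
theorem s2_1800 : Nat.beq (rng sc2 (nat_lit 1800) (nat_lit 1710)) (nat_lit 0) = true := by decide +kernel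
theorem s3_0 : Nat.beq (rng sc3 (nat_lit 0) (nat_lit 1800)) (nat_lit 0) = true := by decide +kernel
theorem s3_1800 : Nat.beq (rng sc3 (nat_lit 1800) (nat_lit 1710)) (nat_lit 0) = true := by decide +kernel
theorem s4_0 : Nat.beq (rng sc4 (nat_lit 0) (nat_lit 1800)) (nat_lit 0) = true := by decide +kernel
theorem s4_1800 : Nat.beq (rng sc4 (nat_lit 1800) (nat_lit 1710)) (nat_lit 0) = true := by decide +kernel
theorem s5_0 : Nat.beq (rng sc5 (nat_lit 0) (nat_lit 1800)) (nat_lit 0) = true := by decide +kernel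
theorem s5_1800 : Nat.beq (rng sc5 (nat_lit 1800) (nat_lit 1710)) (nat_lit 0) = true := by decide +kernel

end Cfsg.Agent.Fi.A22
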